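import Mathlib

/-! Universe-general copy of the first part of `Groth.Agent.EGA2Gr.Irrelevant`:
`A_(f)` is Noetherian for a graded Noetherian ring. -/

set_option autoImplicit false
universe u w

open DirectSum

namespace Groth.Agent.GeomHt88

variable {R : Type w} {A : Type u} [CommRing R] [CommRing A] [Algebra R A] (𝒜 : ℕ → Submodule R A) [GradedAlgebra 𝒜]

/-- Components of elements of an ideal spanned by homogeneous elements. -/
lemma decompose_mem_of_mem_span {E : Set A} {n : ℕ} {P : AddSubmonoid A}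
    (h : ∀ e ∈ E, ∀ a : A, (decompose 𝒜 (a * e) n : A) ∈ P)
    {y : A} (hy : y ∈ Ideal.span E) : (decompose 𝒜 y n : A) ∈ P := by
  suffices ∀ a : A, (decompose 𝒜 (a * y) n : A) ∈ P by simpa using this 1
  induction hy using Submodule.span_induction with
  | mem e he => exact h e he
  | zero => intro a; simp [P.zero_mem]
  | add x y _ _ hx hy =>
    intro a
    rw [mul_add, decompose_add]
    exact P.add_mem (hx a) (hy a)
  | smul r x _ hx =>
    intro a
    rw [smul_eq_mul, ← mul_assoc]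
    exact hx _

lemma mem_irrelevant_iff' (x : A) :
    x ∈ (HomogeneousIdeal.irrelevant 𝒜).toIdeal ↔ (decompose 𝒜 x 0 : A) = 0 := Iff.rfl

lemma span_le_irrelevant {E : Set A} (hE : ∀ e ∈ E, ∃ d : ℕ, 0 < d ∧ e ∈ 𝒜 d) :
    Ideal.span E ≤ (HomogeneousIdeal.irrelevant 𝒜).toIdeal :=
  Ideal.span_le.mpr fun e he ↦ by
    obtain ⟨d, hd, hed⟩ := hE e he
    exact HomogeneousIdeal.mem_irrelevant_of_mem 𝒜 hd hed

/-- If homogeneous elements of positive degree generate `A₊`, they generate `A` over `A₀`. -/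
lemma adjoin_eq_top_of_irrelevant_le {E : Set A} (hE : ∀ e ∈ E, ∃ d : ℕ, 0 < d ∧ e ∈ 𝒜 d)
    (h : (HomogeneousIdeal.irrelevant 𝒜).toIdeal ≤ Ideal.span E) :
    Algebra.adjoin (𝒜 0) E = ⊤ := by
  classical
  have key : ∀ n : ℕ, ∀ x ∈ 𝒜 n, x ∈ Algebra.adjoin (𝒜 0) E := by
    intro n
    induction n using Nat.strong_induction_on with
    | _ n ih =>
      intro x hx
      rcases Nat.eq_zero_or_pos n with rfl | hn
      · exact Subalgebra.algebraMap_mem (Algebra.adjoin (𝒜 0) E) ⟨x, hx⟩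
      · have hx' := h (HomogeneousIdeal.mem_irrelevant_of_mem 𝒜 hn hx)
        rw [← decompose_of_mem_same 𝒜 hx]
        refine decompose_mem_of_mem_span 𝒜
          (P := (Algebra.adjoin (𝒜 0) E).toSubsemiring.toAddSubmonoid) ?_ hx'
        intro e he a
        obtain ⟨d, hd, hed⟩ := hE e he
        rw [coe_decompose_mul_of_right_mem 𝒜 n hed]
        show _ ∈ Algebra.adjoin (𝒜 0) E
        split
        · exact mul_mem (ih _ (by omega) _ (SetLike.coe_mem _)) (Algebra.subset_adjoin he)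
        · exact zero_mem _
  rw [eq_top_iff]
  rintro x -
  rw [← sum_support_decompose 𝒜 x]
  exact sum_mem fun i _ ↦ key i _ (SetLike.coe_mem _)

/-- If homogeneous elements of positive degree generate `A` over `A₀`, they generate `A₊`. -/
lemma irrelevant_eq_span_of_adjoin_eq_top {E : Set A} (hE : ∀ e ∈ E, ∃ d : ℕ, 0 < d ∧ e ∈ 𝒜 d)
    (h : Algebra.adjoin (𝒜 0) E = ⊤) :
    (HomogeneousIdeal.irrelevant 𝒜).toIdeal = Ideal.span E := by
  refine le_antisymm (fun x hx ↦ ?_) (span_le_irrelevant 𝒜 hE)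
  have hz := span_le_irrelevant 𝒜 hE
  suffices x - GradedRing.projZeroRingHom 𝒜 x ∈ Ideal.span E by
    have h0 : GradedRing.projZeroRingHom 𝒜 x = 0 := hx
    rwa [h0, sub_zero] at this
  have hxt : x ∈ Algebra.adjoin (𝒜 0) E := h ▸ trivial
  clear hx
  induction hxt using Algebra.adjoin_induction with
  | mem e he =>
    have h0 : GradedRing.projZeroRingHom 𝒜 e = 0 := hz (Ideal.subset_span he)
    rw [h0, sub_zero]
    exact Ideal.subset_span he
  | algebraMap c =>
    have h0 : GradedRing.projZeroRingHom 𝒜 (algebraMap (𝒜 0) A c) = algebraMap (𝒜 0) A c :=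
      decompose_of_mem_same 𝒜 c.2
    rw [h0, sub_self]
    exact zero_mem _
  | add x y _ _ hx hy =>
    rw [map_add, add_sub_add_comm]
    exact add_mem hx hy
  | mul x y _ _ hx hy =>
    have : x * y - GradedRing.projZeroRingHom 𝒜 (x * y) =
        (x - GradedRing.projZeroRingHom 𝒜 x) * y +
          GradedRing.projZeroRingHom 𝒜 x * (y - GradedRing.projZeroRingHom 𝒜 y) := by
      rw [map_mul]; ring
    rw [this]
    exact add_mem (Ideal.mul_mem_right _ _ hx) (Ideal.mul_mem_left _ _ hy)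

/-- A finitely generated `A₊` has finitely many homogeneous generators of positive degree. -/
lemma exists_finset_of_fg (h : (HomogeneousIdeal.irrelevant 𝒜).toIdeal.FG) :
    ∃ s : Finset A, (∀ e ∈ s, ∃ d : ℕ, 0 < d ∧ e ∈ 𝒜 d) ∧
      (HomogeneousIdeal.irrelevant 𝒜).toIdeal = Ideal.span (s : Set A) := by
  classical
  obtain ⟨G, hG⟩ := h
  replace hG : Ideal.span (G : Set A) = (HomogeneousIdeal.irrelevant 𝒜).toIdeal := hG
  let s : Finset A := G.biUnion fun g ↦ (decompose 𝒜 g).support.image fun i ↦ (decompose 𝒜 g i : A)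
  have hs : ∀ e ∈ s, ∃ d : ℕ, 0 < d ∧ e ∈ 𝒜 d := by
    intro e he
    obtain ⟨g, hg, he⟩ := Finset.mem_biUnion.mp he
    obtain ⟨i, hi, rfl⟩ := Finset.mem_image.mp he
    refine ⟨i, Nat.pos_of_ne_zero ?_, SetLike.coe_mem _⟩
    rintro rfl
    have : g ∈ (HomogeneousIdeal.irrelevant 𝒜).toIdeal := hG ▸ Ideal.subset_span hg
    rw [mem_irrelevant_iff'] at this
    exact DFinsupp.mem_support_iff.mp hi (Subtype.ext this)
  refine ⟨s, hs, le_antisymm ?_ (span_le_irrelevant 𝒜 hs)⟩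
  rw [← hG, Ideal.span_le]
  intro g hg
  rw [← sum_support_decompose 𝒜 g]
  exact sum_mem fun i hi ↦ Ideal.subset_span
    (Finset.mem_biUnion.mpr ⟨g, hg, Finset.mem_image.mpr ⟨i, hi, rfl⟩⟩)

lemma finiteType_of_fg (h : (HomogeneousIdeal.irrelevant 𝒜).toIdeal.FG) :
    Algebra.FiniteType (𝒜 0) A := by
  obtain ⟨s, hs, hspan⟩ := exists_finset_of_fg 𝒜 h
  exact ⟨⟨s, adjoin_eq_top_of_irrelevant_le 𝒜 hs hspan.le⟩⟩

lemma exists_finset_generators [Algebra.FiniteType (𝒜 0) A] :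
    ∃ s : Finset A, (∀ e ∈ s, ∃ d : ℕ, 0 < d ∧ e ∈ 𝒜 d) ∧ Algebra.adjoin (𝒜 0) (s : Set A) = ⊤ ∧
      (HomogeneousIdeal.irrelevant 𝒜).toIdeal = Ideal.span (s : Set A) := by
  obtain ⟨s, hs, hs'⟩ := GradedAlgebra.exists_finset_adjoin_eq_top_and_homogeneous_ne_zero 𝒜
  have hs'' : ∀ e ∈ (s : Set A), ∃ d : ℕ, 0 < d ∧ e ∈ 𝒜 d := fun e he ↦ by
    obtain ⟨n, hn, hn'⟩ := hs' e he
    exact ⟨n, Nat.pos_of_ne_zero hn, hn'⟩
  exact ⟨s, hs'', hs, irrelevant_eq_span_of_adjoin_eq_top 𝒜 hs'' hs⟩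

lemma fg_of_finiteType [Algebra.FiniteType (𝒜 0) A] :
    (HomogeneousIdeal.irrelevant 𝒜).toIdeal.FG := by
  obtain ⟨s, -, -, hs⟩ := exists_finset_generators 𝒜
  exact ⟨s, hs.symm⟩

lemma finiteType_of_isNoetherianRing [IsNoetherianRing A] : Algebra.FiniteType (𝒜 0) A :=
  finiteType_of_fg 𝒜 (IsNoetherian.noetherian _)

lemma isNoetherianRing_away [IsNoetherianRing A] {d : ℕ} (f : A) (hf : f ∈ 𝒜 d) :
    IsNoetherianRing (HomogeneousLocalization.Away 𝒜 f) := by
  have := finiteType_of_isNoetherianRing 𝒜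
  have := HomogeneousLocalization.Away.finiteType f d hf
  exact Algebra.FiniteType.isNoetherianRing (𝒜 0) _

end Groth.Agent.GeomHt88
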